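import Cfsg.Agent.Omega.OM.SwapT.Off
import Cfsg.Agent.Omega.OM.SwapK.OffW
import Cfsg.Agent.Omega.NO3S.WY.Frame
import Cfsg.Agent.Omega.NO3b.Exit.MaxV

/-!
# THEOREM SW in the case (L): the sockets `QFix`, `QFam` (quiet minimal parabolics with `K₀ ≰ O₂(Y)`)

`CaseL S P`, `K₀ = O₂(P)`.

* `OffW S P M` : a minimal parabolic `Y ≤ C_G(Z)` over `T`, `B ≤ T ≤ S`, with `lim S ≤ O₂(Y)`, `O₂(P) ≰ O₂(Y)`, `Y ≰ M`, has
  a best offender on `⟨V_P^Y⟩` in `T`, not in `O₂(Y)` (THEOREM QW);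
* `OffW.gen` : the same for every 2-group `T ≥ B`;
* **`qFix_of`**, **`qFam_of`** : the sockets.
-/

set_option autoImplicit false

namespace Cfsg.Agent.Omega.OM.SwapT.QuietL

open Subgroup Cfsg Cfsg.Agent.ZN.ChoiceBase Cfsg.Agent.ZN.ChoiceSit
open Cfsg.Agent.ZN (jj zj bau zc zl o2)
open Cfsg.Agent.MinSimple.MinParabolic (IsMinPar)
open Cfsg.Agent.MinSimple.VModule (oddGen oddGen_le)
open Cfsg.Agent.Omega.NO1.BestOff (Best)
open Cfsg.Agent.Omega.NO3S.Level (lev nxt Lev lev_isLev BO lim CaseL)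
open Cfsg.Agent.Omega.NO3S.WY (WQ)
open Cfsg.Agent.Omega.OM.LevD (LB K0)
open Cfsg.Agent.Omega.OM.Swap.Fam (Fm BF fm_AA fm_best)
open Cfsg.Agent.Omega.OM.SwapL (zc_elab)
open Cfsg.Agent.Omega.OM.SwapK (VF fam_of_off fix_of_off norm_lim_of V_le_VF)

universe u

variable {G : Type u} [Group G] [Finite G]

/-- **THEOREM QW, its conclusion.** -/
def OffW (S : Sylow 2 G) (P M : Subgroup G) : Prop :=
  ∀ T Y : Subgroup G, WQ S P T Y → BT (S : Subgroup G) (o2 P) ≤ T → lim (S : Subgroup G) ≤ o2 Y →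
    Y ≤ centralizer (zc (S : Subgroup G) : Set G) → ¬ Y ≤ M → ∃ A, A ≤ T ∧ Best (VF S P Y) A ∧ ¬ A ≤ o2 Y

omit [Finite G] in
theorem isMinPar_cj {T P : Subgroup G} (g : G) (h : IsMinPar T P) : IsMinPar (cj g T) (cj g P) :=
  MinPar.IsMinPar.map (MulAut.conj g) h

omit [Finite G] in
theorem best_cj {V X : Subgroup G} (g : G) (h : Best V X) : Best (cj g V) (cj g X) where
  sq := by
    intro a ha
    have h1 := h.sq _ (mem_cj.1 ha)
    rw [← cj_centralizer, mem_cj]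
    convert h1 using 1
    rw [pow_two, pow_two]
    group
  comm := by
    intro a ha b hb
    have h1 := h.comm _ (mem_cj.1 ha) _ (mem_cj.1 hb)
    rw [← cj_centralizer, mem_cj]
    convert h1 using 1
    group
  max := by
    intro Y hY hYc
    have e : ∀ A : Subgroup G, cj g V ⊓ centralizer (A : Set G) = cj g (V ⊓ centralizer (cj g⁻¹ A : Set G)) := by
      intro A
      rw [cj_inf, cj_centralizer, cj_cj_inv]
    have h1 := h.max (cj g⁻¹ Y) (by
      have := cj_mono g⁻¹ hY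
      rwa [cj_inv_cj] at this) (by
      have := cj_mono g⁻¹ hYc
      rwa [cj_inf, cj_inv_cj, cj_centralizer, cj_inv_cj] at this)
    rw [e, e, cj_inv_cj, card_cj, card_cj, card_cj]
    rwa [card_cj] at h1

variable {S : Sylow 2 G} {K₀ P M : Subgroup G}

/-- A 2-group over `B` lies in `S^g`, `g ∈ N_G(B)`, and `Ω₁(Z(S^g)) ≤ Ω₁(Z(T))`. -/
theorem exists_norm_B (hw : NO3b.Wc.WC (S : Subgroup G) K₀) (hL : Lev (S : Subgroup G) K₀) {T : Subgroup G} (hT : IsPGroup 2 T)
    (hB : BT (S : Subgroup G) K₀ ≤ T) : ∃ g ∈ normalizer (BT (S : Subgroup G) K₀ : Set G),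
      T ≤ cj g (S : Subgroup G) ∧ zc (cj g (S : Subgroup G)) ≤ zc T := by
  obtain ⟨S', hS'⟩ := hT.exists_le_sylow
  obtain ⟨g, hg⟩ := MulAction.exists_smul_eq G S S'
  have hg2 : (S' : Subgroup G) = cj g (S : Subgroup G) := by
    rw [← hg, Sylow.coe_subgroup_smul]
    rfl
  have hgN : g ∈ normalizer (BT (S : Subgroup G) K₀ : Set G) := by
    have h1 : cj g⁻¹ (BT (S : Subgroup G) K₀) ≤ (S : Subgroup G) := by
      have := cj_mono g⁻¹ ((hB.trans hS').trans hg2.le)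
      rwa [cj_inv_cj] at this
    have h2 := wc hw _ S.isPGroup' (lb hw).BS _ h1
    have h3 := inv_mem (mem_normalizer_iff_cj.2 h2)
    rwa [inv_inv] at h3
  refine ⟨g, hgN, hg2 ▸ hS', ?_⟩
  intro z hz
  have h4 : z ∈ T := by
    rw [NO3S.Level.zc_cj] at hz
    have h5 : zc (S : Subgroup G) ≤ ZT (S : Subgroup G) K₀ := hL.next.zc_le
    have h6 := cj_mono g h5 hz
    rw [cj_eq_of_mem_normalizer ((lb hw).norm_B_le hgN)] at h6
    exact hB ((lb hw).ZB h6)
  obtain ⟨h5, h6, h7⟩ := mem_zc.1 hz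
  exact mem_zc.2 ⟨h4, h6, fun y hy => h7 y (hg2 ▸ hS' hy)⟩

/-- `OffW` for every 2-group `T ≥ B`. -/
theorem OffW.gen (h : CaseL S P) (ho : OffW S P M) (hSM : (S : Subgroup G) ≤ M)
    (hD : centralizer (zl (S : Subgroup G) P : Set G) ≤ M)
    (hN : normalizer (BT (S : Subgroup G) (o2 P) : Set G) ≤ M) {T T₁ F : Subgroup G} (hT : Syl T F)
    (hB : BT (S : Subgroup G) (o2 P) ≤ T) (hT₁ : IsPGroup 2 T₁) (hTT : T ≤ T₁) (hmin : IsMinPar T F)
    (hc : F ⊓ centralizer (o2 F : Set G) ≤ o2 F) (hl : lim (S : Subgroup G) ≤ o2 F) (hn : ¬ o2 P ≤ o2 F)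
    (hz : F ≤ centralizer (zc T₁ : Set G)) (hM : ¬ F ≤ M) :
    ∃ A, A ≤ T ∧ Best (VF S P F) A ∧ ¬ A ≤ o2 F := by
  obtain ⟨g, hg, hle, hzz⟩ := exists_norm_B h.wc h.levQ hT₁ (hB.trans hTT)
  have hgi : g⁻¹ ∈ normalizer (BT (S : Subgroup G) (o2 P) : Set G) := inv_mem hg
  have hgQ : cj g⁻¹ (o2 P) = o2 P := mem_normalizer_iff_cj.1 (norm_K h.wc hgi)
  have hgV : cj g⁻¹ (zl (S : Subgroup G) P) = zl (S : Subgroup G) P :=
    mem_normalizer_iff_cj.1 (h.norm_o2_le (norm_K h.wc hgi))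
  have hgB : cj g⁻¹ (BT (S : Subgroup G) (o2 P)) = BT (S : Subgroup G) (o2 P) := mem_normalizer_iff_cj.1 hgi
  have hgl : cj g⁻¹ (lim (S : Subgroup G)) = lim (S : Subgroup G) :=
    LevD.norm_of_wc (NO3S.Level.wc_lim S) (lb h.wc).Bp (h.lim_le.trans (K_le h.wc)) hgi
  have ho2 : o2 (cj g⁻¹ F) = cj g⁻¹ (o2 F) := o2_cj _ _
  have hgM : g ∈ M := hN hg
  have hVF : VF S P (cj g⁻¹ F) = cj g⁻¹ (VF S P F) := by
    have := NO3b.Exit.conj_V g⁻¹ (zl (S : Subgroup G) P) F
    rw [hgV] at this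
    exact this.symm
  have hnM : ¬ cj g⁻¹ F ≤ M := by
    intro hle'
    apply hM
    have := cj_mono g hle'
    rw [cj_cj_inv] at this
    exact this.trans (cj_eq_of_mem_normalizer (le_normalizer hgM)).le
  have hTS : cj g⁻¹ T ≤ (S : Subgroup G) := by
    have := cj_mono g⁻¹ (hTT.trans hle)
    rwa [cj_inv_cj] at this
  have hBT' : BT (S : Subgroup G) (o2 P) ≤ cj g⁻¹ T := by
    have := cj_mono g⁻¹ hB
    rwa [hgB] at this
  have hsy : Syl (cj g⁻¹ T) (cj g⁻¹ F) := NO1.JMin.syl_cj hT g⁻¹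
  have hcF : cj g⁻¹ F ≤ centralizer (zc (S : Subgroup G) : Set G) := by
    have h1 : F ≤ centralizer (zc (cj g (S : Subgroup G)) : Set G) := hz.trans (centralizer_le hzz)
    have h2 := cj_mono g⁻¹ h1
    rwa [cj_centralizer, NO3S.Level.zc_cj, cj_inv_cj] at h2
  have hwq : WQ S P (cj g⁻¹ T) (cj g⁻¹ F) :=
    { cl := h
      TS := hTS
      QT := (K_le h.wc).trans hBT'
      syl := hsy
      min := isMinPar_cj g⁻¹ hmin
      c2 := by
        rw [ho2]
        have := cj_mono g⁻¹ hc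
        rwa [cj_inf, cj_centralizer] at this
      mvL := by
        intro hcon
        apply hnM
        rw [← Dich.oddGen_sup_syl hsy]
        exact sup_le (hcon.trans hD) (hTS.trans hSM)
      nQ := by
        intro hcon
        apply hn
        rw [ho2] at hcon
        have := cj_mono g hcon
        rw [cj_cj_inv] at this
        refine le_trans (le_of_eq ?_) this
        rw [← hgQ, cj_cj_inv, hgQ]
      jY := by
        rw [ho2]
        refine ((NO3S.Level.lev_mono (S : Subgroup G) (Nat.zero_le _)).trans hgl.ge).trans (cj_mono g⁻¹ hl) }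
  obtain ⟨A, hA, hb, hnA⟩ := ho _ _ hwq hBT' (by rw [ho2]; exact hgl.ge.trans (cj_mono g⁻¹ hl)) hcF hnM
  refine ⟨cj g A, ?_, ?_, fun hcon => hnA ?_⟩
  · have := cj_mono g hA
    rwa [cj_cj_inv] at this
  · rw [hVF] at hb
    have h1 := best_cj g hb
    rwa [cj_cj_inv] at h1
  · rw [ho2]
    have := cj_mono g⁻¹ hcon
    rwa [cj_inv_cj] at this

/-- `M` contains `S` -/
theorem S_le (hw : NO3b.Wc.WC (S : Subgroup G) K₀) (hN : normalizer (BT (S : Subgroup G) K₀ : Set G) ≤ M) :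
    (S : Subgroup G) ≤ M := ((lb hw).two_le S.isPGroup' (lb hw).BS).trans hN

/-- **The socket `QFix`** in the case (L). -/
theorem qFix_of (h : CaseL S P) (ho : OffW S P M) (hD : centralizer (ZT (S : Subgroup G) (o2 P) : Set G) ≤ M)
    (hZV : ZT (S : Subgroup G) (o2 P) ≤ zl (S : Subgroup G) P)
    (hN : normalizer (BT (S : Subgroup G) (o2 P) : Set G) ≤ M) (H : Subgroup G) : QFix S (o2 P) M H := by
  intro T Y hT hB hY _ hc hn hz hM
  have hlT : lim (S : Subgroup G) ≤ T := (h.lim_le.trans (K_le h.wc)).trans hB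
  by_cases hl : lim (S : Subgroup G) ≤ o2 Y
  · have hoff := ho.gen h (S_le h.wc hN) ((centralizer_le (by exact_mod_cast hZV)).trans hD) hN hT hB hT.2.1 le_rfl
      hY hc hl hn hz hM
    exact (inf_le_inf_right _ (hZV.trans V_le_VF)).trans (fix_of_off h h.lim_le hT hY hl hz hoff)
  · exact inf_le_right.trans (LevD.fixPt S hT hlT hY hl hz)

/-- The family of offenders, `lim S ≰ O₂(F)`. -/
theorem fam_low (h : CaseL S P) {T F : Subgroup G} (hsyl : Syl T F) (hB : BT (S : Subgroup G) (o2 P) ≤ T)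
    (hmin : IsMinPar T F) (hD : centralizer (zl (S : Subgroup G) P : Set G) ≤ M) (hTM : T ≤ M) (hM : ¬ F ≤ M)
    (hl : ¬ lim (S : Subgroup G) ≤ o2 F) : FamF S P (o2 P) T F := by
  classical
  have hT2 := hsyl.2.1
  have hlT : lim (S : Subgroup G) ≤ T := (h.lim_le.trans (K_le h.wc)).trans hB
  have hall : ∀ n, lev (S : Subgroup G) n ≤ lim (S : Subgroup G) := fun n => NO3S.Level.lev_le_lim _ n
  have hcV : ∀ a ∈ lim (S : Subgroup G), ∀ v ∈ zl (S : Subgroup G) P, a * v = v * a := by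
    intro a ha v hv
    rw [← h.zc_eq] at hv
    exact (mem_zc.1 hv).2.2 a (h.lim_le ha)
  by_cases hJ : jj (S : Subgroup G) ≤ o2 F
  swap
  · -- stage `-1`
    have h0T : jj (S : Subgroup G) ≤ T := (hall 0).trans hlT
    have hjT : jj T = jj (S : Subgroup G) := MinSimple.EmptyTI.jj_eq S hT2 h0T
    refine ⟨AA F, fun Λ hΛ hΛF hn _ => fm_AA hΛ hΛF hn, ?_, fun X hX hXT => ?_⟩
    · by_contra hcon
      push Not at hcon
      apply hJ
      rw [← hjT, Cfsg.Agent.ZN.ChoiceBase.jj_eq]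
      exact sSup_le fun X hX => hcon X (Swap.AA_of_syl hsyl hX) hX.2.1
    · have h1 : X ≤ lev (S : Subgroup G) 0 := by
        have := le_jj (Swap.AA_of_le hX hXT hsyl.1)
        rwa [hjT] at this
      exact ⟨((h1.trans (hall 0)).trans h.lim_le).trans (K_le h.wc),
        Or.inl fun a ha v hv => hcV a (hall 0 (h1 ha)) v hv⟩
  · -- the last level in `O₂(F)`
    obtain ⟨s, hlow, hnle⟩ : ∃ s, lev (S : Subgroup G) s ≤ o2 F ∧ ¬ lev (S : Subgroup G) (s + 1) ≤ o2 F := by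
      by_contra hcon
      push Not at hcon
      have : ∀ n, lev (S : Subgroup G) n ≤ o2 F := by
        intro n
        induction n with
        | zero => exact hJ
        | succ n ih => exact hcon n ih
      exact hl (this _)
    have hX := zc_elab (lev (S : Subgroup G) s)
    have hFN : F ≤ normalizer (zc (lev (S : Subgroup G) s) : Set G) :=
      (le_normalizer_o2 F).trans ((LB.lev S s).nrm _ (isPGroup_o2 F) hlow)
    have hlev : ∀ j, lev T j = lev (S : Subgroup G) j := fun j =>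
      LevD.lev_eq S hT2 ((hall j).trans hlT) j le_rfl
    have hVX : zl (S : Subgroup G) P ≤ zc (lev (S : Subgroup G) s) := by
      rw [← h.zc_eq]
      exact (lev_isLev (S : Subgroup G) s).zc_le_zc ((hall s).trans h.lim_le) h.wc.le
    refine ⟨BF F (zc (lev (S : Subgroup G) s)), fun Λ hΛ hΛF hn hle => fm_best hX hFN ?_ hn, ?_, fun X hXA hXT => ?_⟩
    · refine hle.trans (NoFF.Basic.V_le fun f hf => ?_)
      have h1 := cj_mono f hVX
      rwa [cj_eq_of_mem_normalizer (hFN hf)] at h1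
    · by_contra hcon
      push Not at hcon
      apply hnle
      rw [← hlev (s + 1)]
      have e : lev T (s + 1) = nxt T (lev T s) := rfl
      rw [e, hlev s]
      have : Fact (Nat.Prime 2) := ⟨Nat.prime_two⟩
      have hNn : F ≤ normalizer ((F ⊓ centralizer (zc (lev (S : Subgroup G) s) : Set G) : Subgroup G) : Set G) := by
        intro f hf
        rw [mem_normalizer_iff_cj, cj_inf, cj_centralizer, cj_eq_of_mem_normalizer (hFN hf),
          cj_eq_of_mem_normalizer (le_normalizer hf)]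
      refine sup_le ?_ (sSup_le fun X hX' => hcon X ⟨hX'.1.trans hsyl.1, hT2.to_le hX'.1, hX'.2⟩ hX'.1)
      rcases hmin.sup_eq_or_inf_le (p := 2) hT2 (syl_not_dvd hsyl)
        (N := F ⊓ centralizer (zc (lev (S : Subgroup G) s) : Set G)) inf_le_left hNn with h1 | h1
      · exfalso
        apply hM
        rw [← h1]
        refine sup_le ((inf_le_right.trans (centralizer_le ?_)).trans hD) hTM
        exact_mod_cast hVX
      · refine le_trans (fun x hx => ?_) h1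
        exact ⟨hx.1, hsyl.1 hx.1, hx.2⟩
    · have h1 : X ≤ lev (S : Subgroup G) (s + 1) := by
        rw [← hlev (s + 1)]
        have e : lev T (s + 1) = nxt T (lev T s) := rfl
        rw [e, hlev s]
        exact NO3S.Level.BO.le_nxt ⟨hXT, hXA.2.2⟩
      exact ⟨((h1.trans (hall _)).trans h.lim_le).trans (K_le h.wc),
        Or.inl fun a ha v hv => hcV a (hall _ (h1 ha)) v hv⟩

/-- **The socket `QFam`** in the case (L). -/
theorem qFam_of (h : CaseL S P) (ho : OffW S P M) (hD : centralizer (ZT (S : Subgroup G) (o2 P) : Set G) ≤ M)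
    (hZV : ZT (S : Subgroup G) (o2 P) ≤ zl (S : Subgroup G) P)
    (hN : normalizer (BT (S : Subgroup G) (o2 P) : Set G) ≤ M) (H : Subgroup G) : QFam S P (o2 P) M H := by
  intro T F hp hq hn
  have hD' : centralizer (zl (S : Subgroup G) P : Set G) ≤ M := (centralizer_le (by exact_mod_cast hZV)).trans hD
  have hZM : normalizer (ZT (S : Subgroup G) (o2 P) : Set G) ≤ M := (lb h.wc).norm_zj_le.trans (sup_le hD hN)
  have hmin := hp.minPar h.wc hZM
  have hTM : T ≤ M := ((lb h.wc).two_le hp.syl.2.1 hp.BT).trans hN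
  by_cases hl : lim (S : Subgroup G) ≤ o2 F
  · obtain ⟨T₀, Y, hT₀, hB₀, hY, -, hcY, hzY, -, hFY, hOF⟩ := hq
    obtain ⟨T₁, hT₁, hTT₁⟩ := exists_syl hp.syl.2.1 (hp.syl.1.trans hFY)
    obtain ⟨y, hy, rfl⟩ := syl_conj hT₀ hT₁
    have hz1 : F ≤ centralizer (zc (cj y T₀) : Set G) := by
      have h1 := cj_mono y hzY
      rw [cj_eq_of_mem_normalizer (le_normalizer hy), cj_centralizer, ← NO3S.Level.zc_cj] at h1
      exact hFY.trans h1
    have hcF : F ⊓ centralizer (o2 F : Set G) ≤ o2 F := by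
      rintro x ⟨hx, hxc⟩
      exact hOF (hcY ⟨hFY hx, centralizer_le (by exact_mod_cast hOF) hxc⟩)
    have hoff := ho.gen h (S_le h.wc hN) hD' hN hp.syl hp.BT hT₁.2.1 hTT₁ hmin hcF hl hn hz1 hp.nM
    obtain ⟨𝓐, h1, h2, h3⟩ := fam_of_off h h.lim_le hp.syl hp.BT hl hoff
    exact ⟨𝓐, h1, h2, fun X hX hXT => ⟨(h3 X hX hXT).1,
      (h3 X hX hXT).2.imp id fun hb F' h4 h5 => hb.max F' h5 h4⟩⟩
  · exact fam_low h hp.syl hp.BT hmin hD' hTM hp.nM hl

end Cfsg.Agent.Omega.OM.SwapT.QuietL
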