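import Cfsg.Agent.Omega.OM.SwapL.Mod
import Cfsg.Agent.Omega.Node.MulG

/-!
# THEOREM SW over a general top level `K₀`, STEP 0: the ground frame

The port of `OM/SwapL/Frame.lean` (`K₀ = lev S n`) to a weakly closed level `K₀`, `K = nxt S K₀`:

* `ZT S K₀ = Ω₁Z(nxt S K₀)`, `BT S K₀ = C_S(ZT S K₀)`;
* `Lt S P K₀ L W Z C A q` : `HypN S P`, `K₀ ≤ O₂(P)` a weakly closed level, and the frame `FrL` over `BT S K₀`,
  `X = Ω₁Z(K₀)`, with at least two blocks;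
* `perm` (`q = 2`) : `N_G(B)` permutes the triples `(W i, Z i, Z_J ∩ C i)`; supports of the elements of `Z_J`.
-/

set_option autoImplicit false

namespace Cfsg.Agent.Omega.OM.SwapT

open Subgroup Cfsg Cfsg.Agent.ZN.ChoiceBase Cfsg.Agent.ZN.ChoiceSit
open Cfsg.Agent.ZN (jj zj bau zc zl o2)
open Cfsg.Agent.Omega.NO3S (HypN)
open Cfsg.Agent.Omega.NO3S.Level (lev nxt Lev wc_nxt)
open Cfsg.Agent.Omega.OM.LevD (LB)
open Cfsg.Agent.Omega.OM.Lev.Uni (FrL)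
open Cfsg.Agent.Omega.OM.UniPlus (NB)
open Cfsg.Agent.Omega.OM.WeakCl (WC)
open Cfsg.Agent.Omega.OM.SwapL (nb mem_C_iff cj_mul_eq cj_inv_eq)

universe u

variable {G : Type u} [Group G] [Finite G]

/-- `Z_J = Ω₁Z(nxt S K₀)` -/
noncomputable def ZT (S K₀ : Subgroup G) : Subgroup G := zc (nxt S K₀)

/-- `B = C_S(Z_J)` -/
noncomputable def BT (S K₀ : Subgroup G) : Subgroup G := S ⊓ centralizer (zc (nxt S K₀) : Set G)

/-- The ground frame at the top level `K₀`. -/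
structure Lt {ι : Type} (S : Sylow 2 G) (P K₀ : Subgroup G) (L W Z C A : ι → Subgroup G) (q : ℕ) : Prop where
  hyp : HypN S P
  wcK : NO3b.Wc.WC (S : Subgroup G) K₀
  lev : Lev (S : Subgroup G) K₀
  le : K₀ ≤ o2 P
  fr : FrL (BT (S : Subgroup G) K₀) (o2 P) (zl (S : Subgroup G) P) (zc K₀) (ZT (S : Subgroup G) K₀) L W Z C A q
  two : ∀ i : ι, ∃ j, j ≠ i

variable {S : Sylow 2 G} {K₀ : Subgroup G}

theorem lb (h : NO3b.Wc.WC (S : Subgroup G) K₀) :
    LB S (nxt (S : Subgroup G) K₀) (BT (S : Subgroup G) K₀) (ZT (S : Subgroup G) K₀) := Node.MulG.lb_nxt h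

theorem wc (h : NO3b.Wc.WC (S : Subgroup G) K₀) : WC (BT (S : Subgroup G) K₀) :=
  (lb h).wc (wc_nxt h) (NO3S.Level.normalizer_le_zc _)

theorem K_le (h : NO3b.Wc.WC (S : Subgroup G) K₀) : K₀ ≤ BT (S : Subgroup G) K₀ :=
  (NO3S.Level.le_nxt h.le).trans (lb h).KB

/-- `N_G(B) ≤ N_G(K₀)` -/
theorem norm_K (h : NO3b.Wc.WC (S : Subgroup G) K₀) :
    normalizer (BT (S : Subgroup G) K₀ : Set G) ≤ normalizer (K₀ : Set G) := fun g hg =>
  mem_normalizer_iff_cj.2 (LevD.norm_of_wc h (lb h).Bp (K_le h) hg)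

section line

variable {ι : Type} {P : Subgroup G} {L W Z C A : ι → Subgroup G} {q : ℕ}

variable [Finite ι]

/-- **(U1)** -/
theorem Lt.norm (h : Lt S P K₀ L W Z C A q) {g : G} (hg : g ∈ normalizer (BT (S : Subgroup G) K₀ : Set G)) :
    cj g (zl (S : Subgroup G) P) = zl (S : Subgroup G) P ∧
      ∀ i, ∃ j, cj g (Z i) = Z j ∧ cj g (W i) ≤ W j ⊔ ZT (S : Subgroup G) K₀ :=
  h.fr.norm_of hg (NO3S.Level.normalizer_le_zc _ (norm_K h.wcK hg))

theorem Lt.norm_le (h : Lt S P K₀ L W Z C A q) :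
    normalizer (BT (S : Subgroup G) K₀ : Set G) ≤ normalizer (zl (S : Subgroup G) P : Set G) := fun g hg => by
  rw [mem_normalizer_iff_cj]
  exact (h.norm hg).1

/-- `N_G(B)` permutes the triples `(W i, Z i, Z_J ∩ C i)`. -/
theorem perm (h : Lt S P K₀ L W Z C A 2) {g : G} (hg : g ∈ normalizer (BT (S : Subgroup G) K₀ : Set G)) (i : ι) :
    ∃ j, cj g (Z i) = Z j ∧ cj g (W i) = W j ∧
      ∀ z ∈ ZT (S : Subgroup G) K₀, (g * z * g⁻¹ ∈ C j ↔ z ∈ C i) := by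
  have hN := (nb h.fr i).conj g
  rw [cj_eq_of_mem_normalizer hg] at hN
  obtain ⟨j, hZ, hW⟩ := (h.norm hg).2 i
  rw [hZ] at hN
  rw [← h.fr.zcB] at hW
  have hB2 : IsPGroup 2 (BT (S : Subgroup G) K₀) := (lb h.wcK).Bp
  obtain ⟨h1, h2, -⟩ := UniPlus.uni_two (wc h.wcK) hB2 (nb h.fr j) hN hW
  obtain ⟨-, h3, -⟩ := UniPlus.uni_two (wc h.wcK) hB2 hN (nb h.fr j) (h1.ge.trans le_sup_left)
  refine ⟨j, hZ, h1, fun z hz => ?_⟩
  have hz' : g * z * g⁻¹ ∈ ZT (S : Subgroup G) K₀ := by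
    have h4 := cj_eq_of_mem_normalizer ((lb h.wcK).norm_B_le hg)
    rw [← h4]
    exact ⟨z, hz, rfl⟩
  have hzc : g * z * g⁻¹ ∈ zc (BT (S : Subgroup G) K₀) := by rw [h.fr.zcB]; exact hz'
  rw [mem_C_iff h.fr hz', mem_C_iff h.fr hz]
  constructor
  · intro h4 l hl
    have h5 := h2 _ hzc h4 (g * l * g⁻¹) ⟨l, hl, rfl⟩
    have h6 := congrArg (fun t => g⁻¹ * t * g) h5
    simpa [mul_assoc] using h6
  · intro h4
    refine h3 _ hzc fun l hl => ?_
    have h5 := h4 _ (mem_cj.1 hl)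
    have h6 := congrArg (fun t => g * t * g⁻¹) h5
    simpa [mul_assoc] using h6

omit [Finite ι] in
theorem Z_ne (h : Lt S P K₀ L W Z C A 2) (i : ι) : ∃ z ∈ Z i, z ≠ 1 := by
  have h1 : 1 < Nat.card (Z i) := by rw [h.fr.cardZ i]; norm_num
  have : Nontrivial (Z i) := Finite.one_lt_card_iff_nontrivial.1 h1
  obtain ⟨z, hz⟩ := exists_ne (1 : Z i)
  exact ⟨z, z.2, fun h => hz (Subtype.ext h)⟩

omit [Finite ι] in
theorem Z_W (h : Lt S P K₀ L W Z C A 2) (i : ι) : Z i ≤ W i := (h.fr.blk i).ZV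

omit [Finite ι] in
theorem not_mem_C (h : Lt S P K₀ L W Z C A 2) {i : ι} {z : G} (hz : z ∈ Z i) (h1 : z ≠ 1) : z ∉ C i := by
  intro hc
  have h2 : z ∈ W i ⊓ C i := mem_inf.2 ⟨Z_W h i hz, hc⟩
  rw [h.fr.dir i, mem_bot] at h2
  exact h1 h2

omit [Finite ι] in
theorem Z_C (h : Lt S P K₀ L W Z C A 2) {i j : ι} (hij : i ≠ j) : Z j ≤ C i := (Z_W h j).trans (h.fr.WjC i j hij)

omit [Finite ι] in
/-- `Z` is injective. -/
theorem Z_inj (h : Lt S P K₀ L W Z C A 2) {i j : ι} (e : Z i = Z j) : i = j := by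
  by_contra hne
  obtain ⟨z, hz, hz1⟩ := Z_ne h i
  exact not_mem_C h hz hz1 (Z_C h hne (e ▸ hz))

omit [Finite ι] in
theorem Z_eq (h : Lt S P K₀ L W Z C A 2) {i : ι} {x y : G} (hx : x ∈ Z i) (hy : y ∈ Z i) (hx1 : x ≠ 1)
    (hy1 : y ≠ 1) : x = y := UniPlus.eq_of_card_two (h.fr.cardZ i) hx hy hx1 hy1

omit [Finite ι] in
/-- If `g` normalises `Z i` it centralises it. -/
theorem cent_of_cj (h : Lt S P K₀ L W Z C A 2) {i : ι} {g : G} (e : cj g (Z i) = Z i) {z : G} (hz : z ∈ Z i) :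
    g * z = z * g := by
  by_cases h1 : z = 1
  · rw [h1]; simp
  have h2 : g * z * g⁻¹ ∈ Z i := by rw [← e]; exact ⟨z, hz, rfl⟩
  have h3 := Z_eq h h2 hz (fun h3 => h1 (by simpa using h3)) h1
  exact mul_inv_eq_iff_eq_mul.1 h3

omit [Finite ι] in
/-- If `g` moves `Z i` to `Z j` it moves the generator to the generator. -/
theorem conj_gen (h : Lt S P K₀ L W Z C A 2) {i j : ι} {g : G} (e : cj g (Z i) = Z j) {z w : G} (hz : z ∈ Z i)
    (h1 : z ≠ 1) (hw : w ∈ Z j) (h2 : w ≠ 1) : g * z * g⁻¹ = w :=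
  Z_eq h (by rw [← e]; exact ⟨z, hz, rfl⟩) hw (fun h3 => h1 (by simpa using h3)) h2

omit [Finite ι] in
/-- An element of `Z_J` is determined by its support. -/
theorem eq_of_supp (h : Lt S P K₀ L W Z C A 2) {x y : G} (hx : x ∈ ZT (S : Subgroup G) K₀)
    (hy : y ∈ ZT (S : Subgroup G) K₀) (hs : ∀ i, x ∈ C i ↔ y ∈ C i) : x = y := by
  have hxV := h.fr.ZJV hx
  have hyV := h.fr.ZJV hy
  have h1 : x * y⁻¹ = 1 := by
    refine h.fr.C0 _ (mul_mem hxV (inv_mem hyV)) fun i => ?_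
    by_cases hxi : x ∈ C i
    · exact mul_mem hxi (inv_mem ((hs i).1 hxi))
    have hyi : y ∉ C i := fun hc => hxi ((hs i).2 hc)
    obtain ⟨w, hw, c, hc, -, e⟩ := h.fr.split_ZJ i hx
    obtain ⟨w', hw', c', hc', -, e'⟩ := h.fr.split_ZJ i hy
    have hw1 : w ≠ 1 := by
      rintro rfl
      exact hxi (by rw [e, one_mul]; exact hc)
    have hw1' : w' ≠ 1 := by
      rintro rfl
      exact hyi (by rw [e', one_mul]; exact hc')
    have h2 := Z_eq h hw hw' hw1 hw1'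
    have h3 : w * c = c * w := h.fr.Vc (h.fr.ZV i hw) (h.fr.CV i hc)
    have h4 : w * c' = c' * w := h.fr.Vc (h.fr.ZV i hw) (h.fr.CV i hc')
    have e1 : x * y⁻¹ = c * c'⁻¹ := by
      rw [e, e', ← h2, h3, h4]; group
    rw [e1]
    exact mul_mem hc (inv_mem hc')
  exact mul_inv_eq_one.1 h1

/-- Every subset of the index set is a support. -/
theorem exists_supp (h : Lt S P K₀ L W Z C A 2) (s : Set ι) :
    ∃ x ∈ ZT (S : Subgroup G) K₀, ∀ i, (x ∈ C i ↔ i ∉ s) := by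
  classical
  have : Fintype ι := Fintype.ofFinite ι
  suffices H : ∀ t : Finset ι, ∃ x ∈ ZT (S : Subgroup G) K₀, ∀ i, (x ∈ C i ↔ i ∉ t) by
    obtain ⟨x, hx, hs⟩ := H s.toFinset
    exact ⟨x, hx, fun i => by rw [hs i, Set.mem_toFinset]⟩
  intro t
  induction t using Finset.induction_on with
  | empty => exact ⟨1, one_mem _, fun i => by simp [one_mem]⟩
  | insert j t hj ih =>
    obtain ⟨x, hx, hs⟩ := ih
    obtain ⟨z, hz, hz1⟩ := Z_ne h j
    refine ⟨x * z, mul_mem hx (h.fr.Z_le j hz), fun i => ?_⟩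
    by_cases hij : i = j
    · subst hij
      have h1 : x ∈ C i := (hs i).2 hj
      constructor
      · intro h2
        exact absurd ((Subgroup.mul_mem_cancel_left _ h1).1 h2) (not_mem_C h hz hz1)
      · intro h2
        exact absurd (Finset.mem_insert_self i t) h2
    · have h1 : z ∈ C i := Z_C h hij hz
      rw [Subgroup.mul_mem_cancel_right _ h1, hs i, Finset.mem_insert, not_or]
      exact ⟨fun h2 => ⟨hij, h2⟩, fun h2 => h2.2⟩

/-- The support of a conjugate under `N_G(B)`. -/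
theorem supp_cj (h : Lt S P K₀ L W Z C A 2) {g : G} (hg : g ∈ normalizer (BT (S : Subgroup G) K₀ : Set G)) {i j : ι}
    (e : cj g (Z i) = Z j) {z : G} (hz : z ∈ ZT (S : Subgroup G) K₀) : g * z * g⁻¹ ∈ C j ↔ z ∈ C i := by
  obtain ⟨k, h1, -, h2⟩ := perm h hg i
  have h3 : j = k := Z_inj h (e.symm.trans h1)
  rw [h3]
  exact h2 z hz

theorem W_cj (h : Lt S P K₀ L W Z C A 2) {g : G} (hg : g ∈ normalizer (BT (S : Subgroup G) K₀ : Set G)) {i j : ι}
    (e : cj g (Z i) = Z j) : cj g (W i) = W j := by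
  obtain ⟨k, h1, h2, -⟩ := perm h hg i
  have h3 : j = k := Z_inj h (e.symm.trans h1)
  rw [h3]
  exact h2

omit [Finite ι] in
theorem ZT_cj_mem (h : Lt S P K₀ L W Z C A 2) {g : G} (hg : g ∈ normalizer (BT (S : Subgroup G) K₀ : Set G)) {z : G}
    (hz : z ∈ ZT (S : Subgroup G) K₀) : g * z * g⁻¹ ∈ ZT (S : Subgroup G) K₀ := by
  have h3 := cj_eq_of_mem_normalizer ((lb h.wcK).norm_B_le hg)
  rw [← h3]
  exact ⟨z, hz, rfl⟩

/-- `g ∈ N_G(B)` centralises `z ∈ Z_J` if it stabilises its support. -/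
theorem comm_of_supp (h : Lt S P K₀ L W Z C A 2) {g : G} (hg : g ∈ normalizer (BT (S : Subgroup G) K₀ : Set G)) {z : G}
    (hz : z ∈ ZT (S : Subgroup G) K₀) (hs : ∀ i j, cj g (Z i) = Z j → (z ∈ C i ↔ z ∈ C j)) : g * z = z * g := by
  have h1 : g * z * g⁻¹ = z := by
    refine eq_of_supp h (ZT_cj_mem h hg hz) hz fun j => ?_
    obtain ⟨i, hi, -, -⟩ := perm h (inv_mem hg) j
    have e : cj g (Z i) = Z j := by
      have := cj_inv_eq hi
      rwa [inv_inv] at this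
    rw [supp_cj h hg e hz]
    exact hs i j e
  exact mul_inv_eq_iff_eq_mul.1 h1

end line

end Cfsg.Agent.Omega.OM.SwapT
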