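import Cfsg.Agent.Omega.OM.SwapT.Pair
import Cfsg.Agent.Omega.OM.Lev.Low.FrTwo

/-!
# (LL) over a general top level `K₀`: the minimal parabolics with a stage below `K₀`

`FrL (BT S K₀) Q V (Ω₁Z(K₀)) (ZT S K₀) ..`, `lev S n ≤ K₀`.

* `low_two` : (`q = 2`) a minimal parabolic `Y ≤ C_G(c)`, `c ∈ Z_J` of full support, over a 2-group `T ≥ B`, with
  `lev S n ≰ O₂(Y)`, centralises `Ω₁Z(T)`;
* `low_q` : (`q > 2`) the same without `c`.
-/

set_option autoImplicit false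

namespace Cfsg.Agent.Omega.OM.SwapT.LowFin

open Subgroup Cfsg Cfsg.Agent.ZN.ChoiceBase Cfsg.Agent.ZN.ChoiceSit
open Cfsg.Agent.ZN (jj zj bau zc zl o2)
open Cfsg.Agent.MinSimple.MinParabolic (IsMinPar)
open Cfsg.Agent.Omega.NO3S.Level (lev nxt Lev lev_isLev wc_nxt)
open Cfsg.Agent.Omega.OM.Lev.Uni (FrL)

universe u

variable {G : Type u} [Group G] [Finite G] {ι : Type} [Finite ι] {S : Sylow 2 G} {K₀ V Q : Subgroup G} {n : ℕ}
  {L W Z C A : ι → Subgroup G} {q : ℕ}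

theorem norm (hw : NO3b.Wc.WC (S : Subgroup G) K₀)
    (h : FrL (BT (S : Subgroup G) K₀) Q V (zc K₀) (ZT (S : Subgroup G) K₀) L W Z C A q)
    {g : G} (hg : g ∈ normalizer (BT (S : Subgroup G) K₀ : Set G)) :
    cj g V = V ∧ ∀ i, ∃ j, cj g (Z i) = Z j ∧ cj g (W i) ≤ W j ⊔ ZT (S : Subgroup G) K₀ :=
  h.norm_of hg (NO3S.Level.normalizer_le_zc _ (norm_K hw hg))

/-- a 2-group over `B` normalises `V`. -/
theorem two_normV (hw : NO3b.Wc.WC (S : Subgroup G) K₀)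
    (h : FrL (BT (S : Subgroup G) K₀) Q V (zc K₀) (ZT (S : Subgroup G) K₀) L W Z C A q)
    {T : Subgroup G} (hT : IsPGroup 2 T) (hB : BT (S : Subgroup G) K₀ ≤ T) : T ≤ normalizer (V : Set G) := by
  intro t ht
  rw [mem_normalizer_iff_cj]
  exact (norm hw h ((lb hw).two_le hT hB ht)).1

omit [Finite ι] in
theorem V_le_X (hw : NO3b.Wc.WC (S : Subgroup G) K₀)
    (h : FrL (BT (S : Subgroup G) K₀) Q V (zc K₀) (ZT (S : Subgroup G) K₀) L W Z C A q) {j : ℕ}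
    (hj : lev (S : Subgroup G) j ≤ K₀) : V ≤ zc (lev (S : Subgroup G) j) :=
  h.VX.trans ((lev_isLev (S : Subgroup G) j).zc_le_zc hj hw.le)

/-- **`QV`** -/
theorem qv (hw : NO3b.Wc.WC (S : Subgroup G) K₀)
    (h : FrL (BT (S : Subgroup G) K₀) Q V (zc K₀) (ZT (S : Subgroup G) K₀) L W Z C A q)
    {T : Subgroup G} (hT : IsPGroup 2 T) (hB : BT (S : Subgroup G) K₀ ≤ T) {j : ℕ}
    (hj : lev (S : Subgroup G) j ≤ K₀) : Lev.Low.YB.QV T (zc (lev (S : Subgroup G) j)) Q V where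
  QT := h.QB.trans hB
  TQ := by
    intro t ht
    have h1 := (lb hw).two_le hT hB ht
    have h2 := two_normV hw h hT hB ht
    have e : Q = BT (S : Subgroup G) K₀ ⊓ centralizer (V : Set G) := by
      ext x
      rw [mem_inf, mem_centralizer_iff]
      constructor
      · intro hx
        exact ⟨h.QB hx, fun v hv => ((h.mem_Q x (h.QB hx)).1 hx v hv).symm⟩
      · rintro ⟨hx, hx'⟩
        exact (h.mem_Q x hx).2 fun v hv => (hx' v hv).symm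
    rw [mem_normalizer_iff_cj, e, cj_inf, cj_centralizer, cj_eq_of_mem_normalizer h1, cj_eq_of_mem_normalizer h2]
  mem := by
    intro x
    have hVX := V_le_X hw h hj
    constructor
    · exact fun hx => ⟨hVX hx, fun q hq => (h.mem_Q q (h.QB hq)).1 hq x hx⟩
    · rintro ⟨hx, hxQ⟩
      have h1 : x ∈ (S : Subgroup G) := NO3S.Level.lev_le _ j (mem_zc.1 hx).1
      have h2 : x ∈ BT (S : Subgroup G) K₀ :=
        ⟨h1, mem_centralizer_iff.2 fun z hz => hxQ z (h.VQ (h.ZJV hz))⟩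
      have h3 : x ∈ Q := (h.mem_Q x h2).2 fun v hv => (hxQ v (h.VQ hv)).symm
      exact h.zcQ x h3 (mem_zc.1 hx).2.1 fun y hy => (hxQ y hy).symm
  two := hT

theorem BL_le (hw : NO3b.Wc.WC (S : Subgroup G) K₀) {j : ℕ} (hj : lev (S : Subgroup G) j ≤ K₀) :
    LevB.BL (S : Subgroup G) j ≤ BT (S : Subgroup G) K₀ := by
  refine inf_le_inf_left _ (centralizer_le ?_)
  exact_mod_cast (lev_isLev (S : Subgroup G) j).zc_le_zc (hj.trans (NO3S.Level.le_nxt hw.le))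
    (NO3S.Level.nxt_le _ _)

theorem zc_T_le (hw : NO3b.Wc.WC (S : Subgroup G) K₀) (hL : Lev (S : Subgroup G) K₀) {T : Subgroup G}
    (hT : IsPGroup 2 T) (hB : BT (S : Subgroup G) K₀ ≤ T) : zc T ≤ ZT (S : Subgroup G) K₀ :=
  (lev_T (wc_nxt hw) hL.next hT ((lb hw).KB.trans hB)).zc_le

/-- **(LL)**, `q = 2`, inside `C_G(c)`, `c` of full support; `Y` has a stage `≤ n`. -/
theorem low_two (hw : NO3b.Wc.WC (S : Subgroup G) K₀) (hL : Lev (S : Subgroup G) K₀)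
    (hn : ∀ j ≤ n, lev (S : Subgroup G) j ≤ K₀)
    (h : FrL (BT (S : Subgroup G) K₀) Q V (zc K₀) (ZT (S : Subgroup G) K₀) L W Z C A 2)
    {c : G} (hc : c ∈ ZT (S : Subgroup G) K₀) (hcf : ∀ i, c ∉ C i) {T Y : Subgroup G} (hT : Syl T Y)
    (hB : BT (S : Subgroup G) K₀ ≤ T) (hY : IsMinPar T Y) (hYc : Y ≤ centralizer ({c} : Set G))
    (hch : Y ⊓ centralizer (o2 Y : Set G) ≤ o2 Y) (hnY : ¬ lev (S : Subgroup G) n ≤ o2 Y) :
    Y ≤ centralizer (zc T : Set G) := by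
  by_contra hZ
  obtain ⟨j, hj, hlow, hnj⟩ := Lev.Low.exists_stg (S : Subgroup G) hnY
  have hBj : LevB.BL (S : Subgroup G) j ≤ T := (BL_le hw (hn j hj)).trans hB
  obtain ⟨Λ, _, N, c', hy, ⟨l, hl⟩, hcN⟩ := Lev.Low.exists_ybj_cent S hT hBj hY hch hlow hnj hZ
  have hV := qv hw h hT.2.1 hB (hn j hj)
  have hcX : c ∈ zc (lev (S : Subgroup G) j) := hV.VX (h.ZJV hc)
  have h1 := Lev.Low.no_low_two h hy hV hB hc hcf
    (hcN c hcX fun y hy' => mem_centralizer_singleton_iff.1 (hYc hy')) l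
  exact hl ((zc_T_le hw hL hT.2.1 hB).trans h1)

/-- **(LL)**, `q > 2`; `Y` has a stage `≤ n`. -/
theorem low_q (hw : NO3b.Wc.WC (S : Subgroup G) K₀) (hL : Lev (S : Subgroup G) K₀)
    (hn : ∀ j ≤ n, lev (S : Subgroup G) j ≤ K₀)
    (h : FrL (BT (S : Subgroup G) K₀) Q V (zc K₀) (ZT (S : Subgroup G) K₀) L W Z C A q) (hq : 2 < q)
    {T Y : Subgroup G} (hT : Syl T Y) (hB : BT (S : Subgroup G) K₀ ≤ T) (hY : IsMinPar T Y)
    (hch : Y ⊓ centralizer (o2 Y : Set G) ≤ o2 Y) (hnY : ¬ lev (S : Subgroup G) n ≤ o2 Y) :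
    Y ≤ centralizer (zc T : Set G) := by
  by_contra hZ
  obtain ⟨j, hj, hlow, hnj⟩ := Lev.Low.exists_stg (S : Subgroup G) hnY
  have hBj : LevB.BL (S : Subgroup G) j ≤ T := (BL_le hw (hn j hj)).trans hB
  obtain ⟨Λ, _, N, c', hy, ⟨l, hl⟩, -⟩ := Lev.Low.exists_ybj_cent S hT hBj hY hch hlow hnj hZ
  exact hl ((zc_T_le hw hL hT.2.1 hB).trans (Lev.Low.no_low h hq hy (qv hw h hT.2.1 hB (hn j hj)) hB l))

end Cfsg.Agent.Omega.OM.SwapT.LowFin
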