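import Cfsg.Agent.Omega.OM.SwapT.Plug
import Cfsg.Agent.Omega.OM.Lev.Low.FrTwo

/-!
# THEOREM SW over a top level `K₀ ≥ lim S`: the minimal parabolics with `lim S ≰ O₂(Y)`

* `fam_low` : the family of offenders of a pair `(T, F)` with `lim S ≰ O₂(F)`;
* `fix_low` : fixed points do not lift, `lim S ≰ O₂(Y)`;
* `low_low` : `Y ≤ C_G(c)`, `c ∈ Z_J` of full support, `lim S ≰ O₂(Y)` centralises `Ω₁(Z(T))`.
-/

set_option autoImplicit false
set_option linter.unusedSectionVars false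

namespace Cfsg.Agent.Omega.OM.SwapT

open Subgroup Cfsg Cfsg.Agent.ZN.ChoiceBase Cfsg.Agent.ZN.ChoiceSit
open Cfsg.Agent.ZN (jj zj bau zc zl o2)
open Cfsg.Agent.MinSimple.MinParabolic (IsMinPar)
open Cfsg.Agent.MinSimple.VModule (oddGen oddGen_le)
open Cfsg.Agent.Omega.NO3S (HypN)
open Cfsg.Agent.Omega.NO3S.Level (lev Lev lev_isLev BO nxt lim isLev_lim wc_lim lev_le_lim lev_mono lev_wc lev_le)
open Cfsg.Agent.Omega.OM.LevD (LB)
open Cfsg.Agent.Omega.OM.Swap.Fam (Fm BF fm_AA fm_best)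
open Cfsg.Agent.Omega.OM.SwapL (zc_elab)
open Cfsg.Agent.Omega.OM.GLev

universe u

variable {G : Type u} [Group G] [Finite G]

/-- `K₀ ≤ nxt S K₀` -/
theorem lev_le_nxt {S : Sylow 2 G} {K₀ : Subgroup G} (hL : Lev (S : Subgroup G) K₀)
    (hlim : lim (S : Subgroup G) ≤ K₀) (s : ℕ) : lev (S : Subgroup G) s ≤ nxt (S : Subgroup G) K₀ :=
  ((lev_le_lim _ s).trans hlim).trans (NO3S.Level.le_nxt hL.le)

/-- the levels of `T ≥ B` are those of `S` -/
theorem lev_T_eq (S : Sylow 2 G) {T : Subgroup G} (hT2 : IsPGroup 2 T) (hl : lim (S : Subgroup G) ≤ T) (j : ℕ) :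
    lev T j = lev (S : Subgroup G) j := LevD.lev_eq S hT2 ((lev_le_lim (S : Subgroup G) j).trans hl) j le_rfl

/-- the stage -/
theorem exists_stg' (S : Subgroup G) {Y : Subgroup G} (h : ¬ lim S ≤ o2 Y) :
    ¬ jj S ≤ o2 Y ∨ ∃ s, lev S s ≤ o2 Y ∧ ¬ lev S (s + 1) ≤ o2 Y := by
  obtain ⟨j, -, hlow, hj⟩ := Lev.Low.exists_stg S (Y := Y) (n := Nat.card G) h
  rcases j with - | s
  · exact Or.inl hj
  · exact Or.inr ⟨s, hlow s (by omega), hj⟩

/-- **Fixed points do not lift**, `lim S ≰ O₂(Y)`. -/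
theorem fix_low (S : Sylow 2 G) {T Y : Subgroup G} (hT : Syl T Y) (hl : lim (S : Subgroup G) ≤ T)
    (hY : IsMinPar T Y) (hn : ¬ lim (S : Subgroup G) ≤ o2 Y) (hz : Y ≤ centralizer (zc T : Set G)) :
    zc (o2 Y) ≤ centralizer (oddGen Y : Set G) := LevD.fixPt S (n := Nat.card G) hT hl hY hn hz

section line

variable {ι : Type} {S : Sylow 2 G} {P K₀ : Subgroup G} {L W Z C A : ι → Subgroup G} {q : ℕ}

theorem lim_le_T (h : Lt S P K₀ L W Z C A q) (hlim : lim (S : Subgroup G) ≤ K₀) {T : Subgroup G}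
    (hB : BT (S : Subgroup G) K₀ ≤ T) : lim (S : Subgroup G) ≤ T :=
  hlim.trans ((K_le h.wcK).trans hB)

/-- **The family of offenders**, `lim S ≰ O₂(F)`. -/
theorem fam_low (h : Lt S P K₀ L W Z C A q) (hlim : lim (S : Subgroup G) ≤ K₀) {M T F : Subgroup G}
    (hp : PairT S P K₀ M T F) (hD : centralizer (ZT (S : Subgroup G) K₀ : Set G) ≤ M) (hTM : T ≤ M)
    (hZM : normalizer (ZT (S : Subgroup G) K₀ : Set G) ≤ M) (hn : ¬ lim (S : Subgroup G) ≤ o2 F) :
    FamF S P K₀ T F := by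
  have hT2 := hp.syl.2.1
  have hlT := lim_le_T h hlim hp.BT
  have hb := lb h.wcK
  have hlB : ∀ s, lev (S : Subgroup G) s ≤ BT (S : Subgroup G) K₀ := fun s =>
    (lev_le_nxt h.lev hlim s).trans hb.KB
  have hcV : ∀ s, ∀ a ∈ lev (S : Subgroup G) s, ∀ v ∈ zl (S : Subgroup G) P, a * v = v * a := fun s a ha v hv =>
    h.fr.cQ (h.le (hlim (lev_le_lim _ s ha))) hv
  rcases exists_stg' (S : Subgroup G) hn with hJ | ⟨s, hlow, hnle⟩
  · have h0T : jj (S : Subgroup G) ≤ T := (lev_le_lim (S : Subgroup G) 0).trans hlT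
    have hjT : jj T = jj (S : Subgroup G) := MinSimple.EmptyTI.jj_eq S hT2 h0T
    refine ⟨AA F, fun Λ hΛ hΛF hn _ => fm_AA hΛ hΛF hn, ?_, fun X hX hXT => ?_⟩
    · by_contra hcon
      push Not at hcon
      apply hJ
      rw [← hjT, Cfsg.Agent.ZN.ChoiceBase.jj_eq]
      exact sSup_le fun X hX => hcon X (Swap.AA_of_syl hp.syl hX) hX.2.1
    · have h1 : X ≤ lev (S : Subgroup G) 0 := by
        have := le_jj (Swap.AA_of_le hX hXT hp.syl.1)
        rwa [hjT] at this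
      exact ⟨h1.trans (hlB 0), Or.inl fun a ha v hv => hcV 0 a (h1 ha) v hv⟩
  · have hX := zc_elab (lev (S : Subgroup G) s)
    have hFN : F ≤ normalizer (zc (lev (S : Subgroup G) s) : Set G) :=
      (le_normalizer_o2 F).trans ((LB.lev S s).nrm _ (isPGroup_o2 F) hlow)
    have hlev := lev_T_eq S hT2 hlT
    have hVX : zl (S : Subgroup G) P ≤ zc (lev (S : Subgroup G) s) :=
      h.fr.VX.trans ((lev_isLev (S : Subgroup G) s).zc_le_zc ((lev_le_lim _ s).trans hlim) h.lev.le)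
    have e : lev T (s + 1) = nxt T (lev T s) := rfl
    refine ⟨BF F (zc (lev (S : Subgroup G) s)), fun Λ hΛ hΛF hn hle => fm_best hX hFN ?_ hn, ?_, fun X hXA hXT => ?_⟩
    · refine hle.trans (NoFF.Basic.V_le fun f hf => ?_)
      have h1 := cj_mono f hVX
      rwa [cj_eq_of_mem_normalizer (hFN hf)] at h1
    · by_contra hcon
      push Not at hcon
      apply hnle
      rw [← hlev (s + 1), e, hlev s]
      have : Fact (Nat.Prime 2) := ⟨Nat.prime_two⟩
      have hNn : F ≤ normalizer ((F ⊓ centralizer (zc (lev (S : Subgroup G) s) : Set G) : Subgroup G) : Set G) := by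
        intro f hf
        rw [mem_normalizer_iff_cj, cj_inf, cj_centralizer, cj_eq_of_mem_normalizer (hFN hf),
          cj_eq_of_mem_normalizer (le_normalizer hf)]
      refine sup_le ?_ (sSup_le fun X hX' => hcon X ⟨hX'.1.trans hp.syl.1, hT2.to_le hX'.1, hX'.2⟩ hX'.1)
      rcases (hp.minPar h.wcK hZM).sup_eq_or_inf_le (p := 2) hT2 (syl_not_dvd hp.syl)
        (N := F ⊓ centralizer (zc (lev (S : Subgroup G) s) : Set G)) inf_le_left hNn with h1 | h1
      · exfalso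
        apply hp.nM
        rw [← h1]
        refine sup_le ((inf_le_right.trans (centralizer_le ?_)).trans hD) hTM
        exact_mod_cast h.fr.ZJV.trans hVX
      · refine le_trans (fun x hx => ?_) h1
        exact ⟨hx.1, hp.syl.1 hx.1, hx.2⟩
    · have h1 : X ≤ lev (S : Subgroup G) (s + 1) := by
        rw [← hlev (s + 1), e, hlev s]
        exact NO3S.Level.BO.le_nxt ⟨hXT, hXA.2.2⟩
      exact ⟨h1.trans (hlB (s + 1)), Or.inl fun a ha v hv => hcV (s + 1) a (h1 ha) v hv⟩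

end line

section low

variable {ι : Type} [Finite ι] {S : Sylow 2 G} {P K₀ : Subgroup G} {L W Z C A : ι → Subgroup G} {q : ℕ}

/-- `B` of the stage `j` is contained in `B` -/
theorem BL_le (h : Lt S P K₀ L W Z C A q) (hlim : lim (S : Subgroup G) ≤ K₀) (j : ℕ) :
    LevB.BL (S : Subgroup G) j ≤ BT (S : Subgroup G) K₀ := by
  refine inf_le_inf_left _ (centralizer_le ?_)
  exact_mod_cast (lev_isLev (S : Subgroup G) j).zc_le_zc (lev_le_nxt h.lev hlim j) h.lev.next.le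

/-- **`QV`** -/
theorem qv_T (h : Lt S P K₀ L W Z C A q) (hlim : lim (S : Subgroup G) ≤ K₀) {T : Subgroup G} (hT : IsPGroup 2 T)
    (hB : BT (S : Subgroup G) K₀ ≤ T) (j : ℕ) :
    Lev.Low.YB.QV T (zc (lev (S : Subgroup G) j)) (o2 P) (zl (S : Subgroup G) P) where
  QT := h.fr.QB.trans hB
  TQ := by
    intro t ht
    have h1 := (lb h.wcK).two_le hT hB ht
    have h2 := two_norm h hT hB ht
    have e : o2 P = BT (S : Subgroup G) K₀ ⊓ centralizer (zl (S : Subgroup G) P : Set G) := by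
      ext x
      rw [mem_inf, mem_centralizer_iff]
      constructor
      · intro hx
        exact ⟨h.fr.QB hx, fun v hv => ((h.fr.mem_Q x (h.fr.QB hx)).1 hx v hv).symm⟩
      · rintro ⟨hx, hx'⟩
        exact (h.fr.mem_Q x hx).2 fun v hv => (hx' v hv).symm
    rw [mem_normalizer_iff_cj, e, cj_inf, cj_centralizer, cj_eq_of_mem_normalizer h1, cj_eq_of_mem_normalizer h2]
  mem := by
    intro x
    have hVX : zl (S : Subgroup G) P ≤ zc (lev (S : Subgroup G) j) :=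
      h.fr.VX.trans ((lev_isLev (S : Subgroup G) j).zc_le_zc ((lev_le_lim _ j).trans hlim) h.lev.le)
    constructor
    · exact fun hx => ⟨hVX hx, fun q hq => (h.fr.mem_Q q (h.fr.QB hq)).1 hq x hx⟩
    · rintro ⟨hx, hxQ⟩
      have h1 : x ∈ (S : Subgroup G) := lev_le _ j (mem_zc.1 hx).1
      have h2 : x ∈ P := h.hyp.syl.1 h1
      have h3 : x ∈ o2 P := h.hyp.star.isLoc.char2 S h.hyp.ctx.char2 ⟨h2, mem_centralizer_iff.2 hxQ⟩
      exact h.fr.zcQ x h3 (mem_zc.1 hx).2.1 fun y hy => (hxQ y hy).symm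
  two := hT

/-- `Ω₁Z(T) ≤ Z_J` -/
theorem zc_T_le (hw : NO3b.Wc.WC (S : Subgroup G) K₀) (hL : Lev (S : Subgroup G) K₀) {T : Subgroup G}
    (hT : IsPGroup 2 T) (hB : BT (S : Subgroup G) K₀ ≤ T) : zc T ≤ ZT (S : Subgroup G) K₀ := by
  have hle := (lb hw).KB.trans hB
  have h1 := (lev_T hw hL hT ((K_le hw).trans hB)).next
  rw [nxt_T hw hT hle] at h1
  exact h1.zc_le

end low

section two

variable {ι : Type} [Finite ι] {S : Sylow 2 G} {P K₀ : Subgroup G} {L W Z C A : ι → Subgroup G}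

/-- **LL below the top level, inside `C_G(c)`, `c` of full support.** -/
theorem low_low (h : Lt S P K₀ L W Z C A 2) (hlim : lim (S : Subgroup G) ≤ K₀) {c : G}
    (hc : c ∈ ZT (S : Subgroup G) K₀) (hcf : ∀ i, c ∉ C i) {T Y : Subgroup G} (hT : Syl T Y)
    (hB : BT (S : Subgroup G) K₀ ≤ T) (hY : IsMinPar T Y) (hYc : Y ≤ centralizer ({c} : Set G))
    (hch : Y ⊓ centralizer (o2 Y : Set G) ≤ o2 Y) (hn : ¬ lim (S : Subgroup G) ≤ o2 Y) :
    Y ≤ centralizer (zc T : Set G) := by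
  by_contra hZ
  obtain ⟨j, -, hlow, hnj⟩ := Lev.Low.exists_stg (S : Subgroup G) (Y := Y) (n := Nat.card G) hn
  have hBj : LevB.BL (S : Subgroup G) j ≤ T := (BL_le h hlim j).trans hB
  obtain ⟨Λ, _, N, c', hy, ⟨l, hl⟩, hcN⟩ := Lev.Low.exists_ybj_cent S hT hBj hY hch hlow hnj hZ
  have hV := qv_T h hlim hT.2.1 hB j
  have hcX : c ∈ zc (lev (S : Subgroup G) j) := hV.VX (h.fr.ZJV hc)
  have h1 := Lev.Low.no_low_two h.fr hy hV hB hc hcf
    (hcN c hcX fun y hy' => mem_centralizer_singleton_iff.1 (hYc hy')) l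
  exact hl ((zc_T_le h.wcK h.lev hT.2.1 hB).trans h1)

end two

end Cfsg.Agent.Omega.OM.SwapT
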