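import Cfsg.Agent.Omega.OM.SwapT.Plug

/-!
# THEOREM SW over a general top level `K₀`: the ground frames

* `exists_BO_top` : `Top S P K₀` gives a best offender on `Ω₁Z(K₀)` in `S` which is not in `O₂(P)`;
* `exists_lt_nat`, `exists_lt_sym` : the ground frame `Lt S P K₀ L W Z C A 2`, natural type (`q = 2`) and symmetric types.
-/

set_option autoImplicit false

namespace Cfsg.Agent.Omega.OM.SwapT

open Subgroup Cfsg Cfsg.Agent.ZN.ChoiceBase Cfsg.Agent.ZN.ChoiceSit Cfsg.Agent.Omega.MinPar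
open Cfsg.Agent.ZN (jj zj bau zc zl o2)
open Cfsg.Agent.Omega.NO3S (HypN)
open Cfsg.Agent.Omega.NO3S.Level (lev nxt Lev wc_nxt BO)
open Cfsg.Agent.Omega.FFThm (NatK NatKM SymK SymKM)
open Cfsg.Agent.Omega.FrameFF (cv)
open Cfsg.Agent.Omega.Node.MulG (Top)

universe u

variable {G : Type u} [Group G] [Finite G] {S : Sylow 2 G} {P K₀ : Subgroup G}

theorem exists_BO_top (hG : IsCharacteristicTwoType G) (hP : IsParS (S : Subgroup G) P) (h : Top S P K₀) :
    ∃ A ∈ BO (S : Subgroup G) K₀, ¬ A ≤ o2 P := by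
  by_contra hcon
  push Not at hcon
  apply h.nxt
  refine sup_le ?_ (sSup_le hcon)
  have h3 : zl (S : Subgroup G) P ≤ zc K₀ :=
    (hP.isLoc.zl_le S hG).trans (h.lev.zc_o2_le h.le (hP.isLoc.o2_le S))
  have h4 := IsParS.inf_centralizer S hG hP
  rw [← h4]
  exact inf_le_inf_left _ (centralizer_le h3)

/-- The ground frame, natural type, `q = 2`. -/
theorem exists_lt_nat (h : HypN S P) (hT : Top S P K₀) {F : Type} [Field F] [Finite F] [CharP F 2] {k : ℕ}
    (hk : 2 ≤ k) (hF : Nat.card F = 2)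
    (N : NatKM F (S : Subgroup G) P (zl (S : Subgroup G) P) (cv (S : Subgroup G) P) k) :
    ∃ L W Z C A : Fin k → Subgroup G, Lt S P K₀ L W Z C A 2 := by
  obtain ⟨M, L, Z, A, -, hFr, hBg, -⟩ := Lev.Main.bg_K h hT.lev hT.le (exists_BO_top h.ctx.char2 h.star hT) hk N
    (B := BT (S : Subgroup G) K₀) rfl
  rw [hF] at hFr hBg
  exact ⟨L, _, Z, _, A, h, hT.wc, hT.lev, hT.le, hFr, hBg.two⟩

/-- The ground frame, symmetric types. -/
theorem exists_lt_sym (h : HypN S P) (hT : Top S P K₀) {k m : ℕ} (hk : 0 < k) (hm : 2 ≤ m)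
    (N : SymKM (S : Subgroup G) P (zl (S : Subgroup G) P) (cv (S : Subgroup G) P) k m) :
    ∃ (ι : Type) (_ : Finite ι) (L W Z C A : ι → Subgroup G), Lt S P K₀ L W Z C A 2 := by
  obtain ⟨ι, hι, W, d, t, r, L, A, -, -, -, -, h2, hF⟩ := Lev.Sym.exists_sym_lev FF.Glob.ffthmM
    h.ctx.char2 h.star hT.lev hT.le h.toHyp.inf_eq_bot (exists_BO_top h.ctx.char2 h.star hT) hk hm N
  exact ⟨ι, hι, L, W, _, _, A, h, hT.wc, hT.lev, hT.le, hF, h2⟩

end Cfsg.Agent.Omega.OM.SwapT
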