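import Cfsg.Agent.Omega.OM.SwapT.Pair
import Cfsg.Agent.Omega.OM.SwapL.Off

/-!
# THEOREM SW over a general top level `K₀`, STEP 0: the family of offenders of a pair

* `FamF S P K₀ T F` : a family `𝓐` as in helper394's `Fm`; some member in `T` is not in `O₂(F)`; the members in `T` lie in
  `B`, and they centralise `V_P` or are best offenders on `Ω₁Z(K₀)`;
* `exists_fam` : `FamF` for every pair with `K₀ ≤ O₂(F)`;
* `QFam S P K₀ M H` : `FamF` for the pairs in quiet minimal parabolics `Y ≤ H` with `K₀ ≰ O₂(F)` (socket).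
-/

set_option autoImplicit false

namespace Cfsg.Agent.Omega.OM.SwapT

open Subgroup Cfsg Cfsg.Agent.ZN.ChoiceBase Cfsg.Agent.ZN.ChoiceSit
open Cfsg.Agent.ZN (jj zj bau zc zl o2)
open Cfsg.Agent.MinSimple.MinParabolic (IsMinPar)
open Cfsg.Agent.Omega.NO3S (HypN)
open Cfsg.Agent.Omega.NO3S.Level (lev nxt Lev BO)
open Cfsg.Agent.Omega.OM.LevD (LB K0)
open Cfsg.Agent.Omega.OM.Swap.Fam (Fm BF fm_AA fm_best)
open Cfsg.Agent.Omega.OM.SwapL (zc_elab)

universe u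

variable {G : Type u} [Group G] [Finite G]

/-- The family of offenders of a pair. -/
def FamF (S : Sylow 2 G) (P K₀ T F : Subgroup G) : Prop :=
  ∃ 𝓐 : Set (Subgroup G),
    (∀ Λ : Subgroup G, IsElementaryAbelian 2 Λ → Λ ≤ F → F ≤ normalizer (Λ : Set G) →
      Λ ≤ NoFF.Basic.V (zl (S : Subgroup G) P) F → Fm F Λ 𝓐) ∧
    (∃ X ∈ 𝓐, X ≤ T ∧ ¬ X ≤ o2 F) ∧
    ∀ X ∈ 𝓐, X ≤ T → X ≤ BT (S : Subgroup G) K₀ ∧
      ((∀ a ∈ X, ∀ v ∈ zl (S : Subgroup G) P, a * v = v * a) ∨ Lev.Uni.Best (zc K₀) X)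

/-- **Socket**: the family for pairs in quiet minimal parabolics with `K₀ ≰ O₂(F)`. -/
def QFam (S : Sylow 2 G) (P K₀ M H : Subgroup G) : Prop :=
  ∀ T F : Subgroup G, PairT S P K₀ M T F → InQ S K₀ M H F → ¬ K₀ ≤ o2 F → FamF S P K₀ T F

section line

variable {ι : Type} {S : Sylow 2 G} {P K₀ : Subgroup G} {L W Z C A : ι → Subgroup G} {q : ℕ}

/-- The family of offenders, `K₀ ≤ O₂(F)`. -/
theorem exists_fam (h : Lt S P K₀ L W Z C A q) {M T F : Subgroup G} (hp : PairT S P K₀ M T F)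
    (hD : centralizer (ZT (S : Subgroup G) K₀ : Set G) ≤ M) (hTM : T ≤ M)
    (hZM : normalizer (ZT (S : Subgroup G) K₀ : Set G) ≤ M) (hlow : K₀ ≤ o2 F) : FamF S P K₀ T F := by
  have hT2 := hp.syl.2.1
  have hb := lb h.wcK
  have hKT : nxt (S : Subgroup G) K₀ ≤ T := hb.KB.trans hp.BT
  have hX := zc_elab K₀
  have hFN : F ≤ normalizer (zc K₀ : Set G) := by
    refine (le_normalizer_o2 F).trans fun g hg => NO3S.Level.normalizer_le_zc _ ?_
    exact mem_normalizer_iff_cj.2 (LevD.norm_of_wc h.wcK (isPGroup_o2 F) hlow hg)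
  have hnx : nxt T K₀ = nxt (S : Subgroup G) K₀ := nxt_T h.wcK hT2 hKT
  have hVX : zl (S : Subgroup G) P ≤ zc K₀ := h.fr.VX
  refine ⟨BF F (zc K₀), fun Λ hΛ hΛF hn hle => fm_best hX hFN ?_ hn, ?_, fun X hXA hXT => ?_⟩
  · refine hle.trans (NoFF.Basic.V_le fun f hf => ?_)
    have h1 := cj_mono f hVX
    rwa [cj_eq_of_mem_normalizer (hFN hf)] at h1
  · by_contra hcon
    push Not at hcon
    apply hp.nK h.wcK hZM
    rw [← hnx]
    have : Fact (Nat.Prime 2) := ⟨Nat.prime_two⟩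
    have hNn : F ≤ normalizer ((F ⊓ centralizer (zc K₀ : Set G) : Subgroup G) : Set G) := by
      intro f hf
      rw [mem_normalizer_iff_cj, cj_inf, cj_centralizer, cj_eq_of_mem_normalizer (hFN hf),
        cj_eq_of_mem_normalizer (le_normalizer hf)]
    refine sup_le ?_ (sSup_le fun X hX' => hcon X ⟨hX'.1.trans hp.syl.1, hT2.to_le hX'.1, hX'.2⟩ hX'.1)
    rcases (hp.minPar h.wcK hZM).sup_eq_or_inf_le (p := 2) hT2 (syl_not_dvd hp.syl)
      (N := F ⊓ centralizer (zc K₀ : Set G)) inf_le_left hNn with h1 | h1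
    · exfalso
      apply hp.nM
      rw [← h1]
      refine sup_le ((inf_le_right.trans (centralizer_le ?_)).trans hD) hTM
      exact_mod_cast h.fr.ZJV.trans hVX
    · refine le_trans (fun x hx => ?_) h1
      exact ⟨hx.1, hp.syl.1 hx.1, hx.2⟩
  · have h1 : X ≤ nxt (S : Subgroup G) K₀ := by
      rw [← hnx]
      exact NO3S.Level.BO.le_nxt ⟨hXT, hXA.2.2⟩
    exact ⟨h1.trans hb.KB, Or.inr fun F' h1 h2 => hXA.2.2.max F' h2 h1⟩

end line

end Cfsg.Agent.Omega.OM.SwapT
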