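import Cfsg.Agent.Omega.OM.SwapT.Frame
import Cfsg.Agent.Omega.OM.Swap.Pair
import Cfsg.Agent.Omega.OM.Lev.BlkGen

/-!
# THEOREM SW over a general top level `K₀`, STEP 0: pairs `(T, F)` inside every subgroup of characteristic 2 over `B`
not contained in `M`

* `BMT S K₀ M H` : minimal parabolics `Y ≤ H` over a 2-group `T ≥ B` with `nxt S K₀ ≰ O₂(Y)`, `[Ω₁Z(T), Y] ≠ 1` lie
  in `M`;
* `QFix S K₀ M H` : a quiet minimal parabolic `Y ≤ H` over `T ≥ B` with `K₀ ≰ O₂(Y)`, `Y ≰ M`: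
  `Z_J ∩ Ω₁Z(O₂(Y))` is centralised by `O²(Y)` (for `K₀ ≤ O₂(Y)` this holds: `fixPt_nxt`);
* `InQ S K₀ M H F` : `F` lies in a quiet minimal parabolic `Y ≤ H`, `Y ≰ M`, `O₂(Y) ≤ O₂(F)`;
* `exists_pair`.
-/

set_option autoImplicit false

namespace Cfsg.Agent.Omega.OM.SwapT

open Subgroup Cfsg Cfsg.Agent.ZN.ChoiceBase Cfsg.Agent.ZN.ChoiceSit
open Cfsg.Agent.ZN (jj zj bau zc zl o2)
open Cfsg.Agent.MinSimple.MinParabolic (IsMinPar)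
open Cfsg.Agent.MinSimple.VModule (oddGen oddGen_le)
open Cfsg.Agent.Omega.NO3S (HypN)
open Cfsg.Agent.Omega.NO3S.Level (lev nxt Lev wc_nxt)
open Cfsg.Agent.Omega.OM.LevD (LB K0 norm_le_M cent_le_K0)
open Cfsg.Agent.Omega.OM.Dich (oddGen_sup_syl)

universe u

variable {G : Type u} [Group G] [Finite G] {S : Sylow 2 G} {K₀ : Subgroup G}

/-! ### (6) (O1+), with the weak form of `FixPt` -/

/-- `LevB.genM` with the weak form of `FixPt` (for `Z_J` instead of `Ω₁Z(O₂(Y))`). -/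
theorem genM' {K B ZJ H T : Subgroup G} {𝓑 : Subgroup G → Subgroup G → Prop} (hB : LB S K B ZJ)
    {M : Subgroup G} (hK : K0 ZJ 𝓑 ≤ M)
    (hN : normalizer (B : Set G) ≤ M) (hT : Syl T H) (hBT : B ≤ T)
    (hc : H ⊓ centralizer (o2 H : Set G) ≤ o2 H)
    (hfix : ∀ Y : Subgroup G, IsMinPar T Y → Y ≤ H → ¬ K ≤ o2 Y → Y ≤ centralizer (zc T : Set G) → ¬ Y ≤ M →
      ZJ ⊓ zc (o2 Y) ≤ centralizer (oddGen Y : Set G))
    (hblk : ∀ Y : Subgroup G, IsMinPar T Y → Y ≤ H → ¬ K ≤ o2 Y → ¬ Y ≤ centralizer (zc T : Set G) → Y ≤ M) :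
    H ≤ (H ⊓ M) ⊔ ⨆ Y : {Y : Subgroup G // IsMinPar T Y ∧ Y ≤ H ∧ ¬ K ≤ o2 Y ∧
      Y ≤ centralizer (zc T : Set G) ∧ ¬ o2 Y ≤ B}, (Y : Subgroup G) := by
  have hZM := norm_le_M hB hK hN
  have hTN : normalizer (T : Set G) ≤ M := (hB.nrm T hT.2.1 (hB.KB.trans hBT)).trans hZM
  have hTM : T ≤ M := le_normalizer.trans hTN
  have hD : centralizer (ZJ : Set G) ≤ M := cent_le_K0.trans hK
  refine MinSimple.MinParabolic.le_of_forall hT.1 ?_ fun Y hY hYH => ?_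
  · exact le_sup_of_le_left (inf_le_inf_left _ hTN)
  have hcase : Y ≤ M → Y ≤ (H ⊓ M) ⊔ ⨆ Y : {Y : Subgroup G // IsMinPar T Y ∧ Y ≤ H ∧ ¬ K ≤ o2 Y ∧
      Y ≤ centralizer (zc T : Set G) ∧ ¬ o2 Y ≤ B}, (Y : Subgroup G) :=
    fun h => le_sup_of_le_left (le_inf hYH h)
  have hTY : Syl T Y := ⟨hY.le, hT.2.1, fun Q hQ h2 hTQ => hT.2.2 Q (hQ.trans hYH) h2 hTQ⟩
  by_cases h1 : K ≤ o2 Y
  · exact hcase ((le_normalizer_o2 Y).trans ((hB.nrm _ (isPGroup_o2 Y) h1).trans hZM))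
  by_cases h2 : Y ≤ centralizer (zc T : Set G)
  · by_cases h3 : o2 Y ≤ B
    · apply hcase
      by_contra hYM
      apply hYM
      -- `Z_J ≤ Ω₁(Z(O₂(Y)))`
      have h4 : o2 H ≤ o2 Y := by
        refine le_o2 (isPGroup_o2 H) ((o2_le_syl hT).trans hY.le) (hYH.trans (le_normalizer_o2 H))
      have hcY : Y ⊓ centralizer (o2 Y : Set G) ≤ o2 Y := by
        rintro x ⟨hx, hxc⟩
        exact h4 (hc ⟨hYH hx, centralizer_le (by exact_mod_cast h4) hxc⟩)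
      have h5 : ZJ ≤ zc (o2 Y) := by
        intro z hz
        have hzT : z ∈ T := hBT (hB.ZB hz)
        have hcz : ∀ y ∈ o2 Y, y * z = z * y := fun y hy =>
          (mem_centralizer_iff.1 (hB.Bc (h3 hy)) z hz).symm
        exact mem_zc.2 ⟨hcY ⟨hY.le hzT, mem_centralizer_iff.2 hcz⟩, hB.sq z hz, hcz⟩
      have h6 := (le_inf le_rfl h5).trans (hfix Y hY hYH h1 h2 hYM)
      have h7 : oddGen Y ≤ M := (le_centralizer_iff.1 h6).trans hD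
      have h8 : oddGen Y ⊔ T = Y := oddGen_sup_syl hTY
      rw [← h8]
      exact sup_le h7 hTM
    · exact le_sup_of_le_right (le_iSup (fun Y : {Y : Subgroup G // IsMinPar T Y ∧ Y ≤ H ∧ ¬ K ≤ o2 Y ∧
        Y ≤ centralizer (zc T : Set G) ∧ ¬ o2 Y ≤ B} => (Y : Subgroup G))
        ⟨Y, hY, hYH, h1, h2, h3⟩)
  · exact hcase (hblk Y hY hYH h1 h2)

/-! ### `nxt` over a 2-group -/

theorem nxt_T (h : NO3b.Wc.WC (S : Subgroup G) K₀) {T : Subgroup G} (hT : IsPGroup 2 T)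
    (hle : nxt (S : Subgroup G) K₀ ≤ T) : nxt T K₀ = nxt (S : Subgroup G) K₀ :=
  LevD.nxt_eq h (wc_nxt h) hT hle

/-- `Lev T K₀` for every 2-group `T ≥ K₀` -/
theorem lev_T (h : NO3b.Wc.WC (S : Subgroup G) K₀) (hL : Lev (S : Subgroup G) K₀) {T : Subgroup G}
    (hT : IsPGroup 2 T) (hle : K₀ ≤ T) : Lev T K₀ where
  le := hle
  jjle := by rw [MinSimple.EmptyTI.jj_eq S hT (hL.jjle.trans hle)]; exact hL.jjle
  norm := fun _ h1 h2 _ hg => mem_normalizer_iff_cj.2 (LevD.norm_of_wc h (hT.to_le h2) h1 hg)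

/-- **(F1)** a conjugate of `B` inside `M` is a conjugate by an element of `M`. -/
theorem mem_of_cj_B_le (hw : NO3b.Wc.WC (S : Subgroup G) K₀) {M : Subgroup G} (hSM : (S : Subgroup G) ≤ M)
    (hN : normalizer (BT (S : Subgroup G) K₀ : Set G) ≤ M) {g : G} (h : cj g (BT (S : Subgroup G) K₀) ≤ M) :
    g ∈ M := by
  have hS : Syl (S : Subgroup G) M := ⟨hSM, S.isPGroup', fun Q _ hQ hle => S.is_maximal' hQ hle⟩
  have h2 : IsPGroup 2 (cj g (BT (S : Subgroup G) K₀)) := isPGroup_cj g (lb hw).Bp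
  obtain ⟨T, hT, hle⟩ := exists_syl h2 h
  obtain ⟨m, hm, rfl⟩ := syl_conj hS hT
  have h3 : cj (m⁻¹ * g) (BT (S : Subgroup G) K₀) ≤ (S : Subgroup G) := by
    have := cj_mono m⁻¹ hle
    rwa [cj_inv_cj, cj_cj] at this
  have h4 := wc hw _ S.isPGroup' (lb hw).BS _ h3
  have h5 : m⁻¹ * g ∈ M := hN (mem_normalizer_iff_cj.2 h4)
  have h6 := mul_mem hm h5
  rwa [mul_inv_cancel_left] at h6

/-- The pairs `(T, F)` of STEP 0. -/
structure PairT (S : Sylow 2 G) (P K₀ M T F : Subgroup G) : Prop where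
  syl : Syl T F
  BT : BT (S : Subgroup G) K₀ ≤ T
  nM : ¬ F ≤ M
  min : ∀ K : Subgroup G, T ≤ K → K < F → K ≤ M
  VO : zl (S : Subgroup G) P ≤ o2 F
  fix : ZT (S : Subgroup G) K₀ ⊓ centralizer (o2 F : Set G) ≤ centralizer (F : Set G)

/-- `F` lies in a quiet minimal parabolic `Y ≤ H`, `Y ≰ M` over a 2-group `T₀ ≥ B`, `O₂(Y) ≤ O₂(F)`. -/
def InQ (S : Sylow 2 G) (K₀ M H F : Subgroup G) : Prop :=
  ∃ T₀ Y : Subgroup G, Syl T₀ Y ∧ BT (S : Subgroup G) K₀ ≤ T₀ ∧ IsMinPar T₀ Y ∧ Y ≤ H ∧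
    Y ⊓ centralizer (o2 Y : Set G) ≤ o2 Y ∧ Y ≤ centralizer (zc T₀ : Set G) ∧ ¬ Y ≤ M ∧ F ≤ Y ∧ o2 Y ≤ o2 F

theorem InQ.mono {M H H' F : Subgroup G} (hH : H' ≤ H) (h : InQ S K₀ M H' F) : InQ S K₀ M H F := by
  obtain ⟨T₀, Y, h1, h2, h3, h4, h5⟩ := h
  exact ⟨T₀, Y, h1, h2, h3, h4.trans hH, h5⟩

/-- Minimal parabolics `Y ≤ H` over `T ≥ B` which move `Ω₁Z(T)` lie in `M`: the blocks over `B` and LL. -/
def BMT (S : Sylow 2 G) (K₀ M H : Subgroup G) : Prop :=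
  ∀ T Y : Subgroup G, Syl T Y → BT (S : Subgroup G) K₀ ≤ T → IsMinPar T Y → Y ≤ H →
    Y ⊓ centralizer (o2 Y : Set G) ≤ o2 Y → ¬ nxt (S : Subgroup G) K₀ ≤ o2 Y →
    ¬ Y ≤ centralizer (zc T : Set G) → Y ≤ M

/-- Fixed points do not lift for the quiet minimal parabolics `Y ≤ H` over `T ≥ B` with `K₀ ≰ O₂(Y)`, `Y ≰ M`. -/
def QFix (S : Sylow 2 G) (K₀ M H : Subgroup G) : Prop :=
  ∀ T Y : Subgroup G, Syl T Y → BT (S : Subgroup G) K₀ ≤ T → IsMinPar T Y → Y ≤ H →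
    Y ⊓ centralizer (o2 Y : Set G) ≤ o2 Y → ¬ K₀ ≤ o2 Y → Y ≤ centralizer (zc T : Set G) → ¬ Y ≤ M →
    ZT (S : Subgroup G) K₀ ⊓ zc (o2 Y) ≤ centralizer (oddGen Y : Set G)

/-- Fixed points do not lift. -/
theorem fix_T (hw : NO3b.Wc.WC (S : Subgroup G) K₀) (hL : Lev (S : Subgroup G) K₀) {M H : Subgroup G}
    (hq : QFix S K₀ M H) {T Y : Subgroup G} (hT : Syl T Y) (hB : BT (S : Subgroup G) K₀ ≤ T) (hY : IsMinPar T Y)
    (hYH : Y ≤ H) (hc : Y ⊓ centralizer (o2 Y : Set G) ≤ o2 Y) (hn : ¬ nxt (S : Subgroup G) K₀ ≤ o2 Y)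
    (hz : Y ≤ centralizer (zc T : Set G)) (hM : ¬ Y ≤ M) :
    ZT (S : Subgroup G) K₀ ⊓ zc (o2 Y) ≤ centralizer (oddGen Y : Set G) := by
  by_cases h1 : K₀ ≤ o2 Y
  · have hle : nxt (S : Subgroup G) K₀ ≤ T := (lb hw).KB.trans hB
    have h2 : ¬ nxt T K₀ ≤ o2 Y := by rwa [nxt_T hw hT.2.1 hle]
    exact inf_le_right.trans
      (LevD.fixPt_nxt hT hY (lev_T hw hL hT.2.1 ((K_le hw).trans hB)) h1 h2 hz)
  · exact hq T Y hT hB hY hYH hc h1 hz hM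

section line

variable {ι : Type} [Finite ι] {P : Subgroup G} {L W Z C A : ι → Subgroup G} {q : ℕ}

/-- a 2-group over `B` normalises `V`. -/
theorem two_norm (h : Lt S P K₀ L W Z C A q) {T : Subgroup G} (hT : IsPGroup 2 T)
    (hB : BT (S : Subgroup G) K₀ ≤ T) : T ≤ normalizer (zl (S : Subgroup G) P : Set G) :=
  ((lb h.wcK).two_le hT hB).trans h.norm_le

omit [Finite ι] in
theorem V_le_B (h : Lt S P K₀ L W Z C A q) : zl (S : Subgroup G) P ≤ BT (S : Subgroup G) K₀ :=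
  h.fr.VQ.trans h.fr.QB

/-- `V ≤ O₂(Y)` if `Y` centralises `Ω₁(Z(T))`, `B ≤ T ≤ Y`. -/
theorem V_le_o2 (h : Lt S P K₀ L W Z C A q) {T Y : Subgroup G} (hT : IsPGroup 2 T)
    (hB : BT (S : Subgroup G) K₀ ≤ T) (hTY : T ≤ Y) (hY : Y ≤ centralizer (zc T : Set G)) :
    zl (S : Subgroup G) P ≤ o2 Y := by
  obtain ⟨S', hS'⟩ := hT.exists_le_sylow
  obtain ⟨g, hg⟩ := MulAction.exists_smul_eq G S S'
  have hg2 : (S' : Subgroup G) = cj g (S : Subgroup G) := by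
    rw [← hg, Sylow.coe_subgroup_smul]
    rfl
  have hgN : g ∈ normalizer (BT (S : Subgroup G) K₀ : Set G) := by
    have h1 : cj g⁻¹ (BT (S : Subgroup G) K₀) ≤ (S : Subgroup G) := by
      have := cj_mono g⁻¹ ((hB.trans hS').trans hg2.le)
      rwa [cj_inv_cj] at this
    have h2 := wc h.wcK _ S.isPGroup' (lb h.wcK).BS _ h1
    have h3 := inv_mem (mem_normalizer_iff_cj.2 h2)
    rwa [inv_inv] at h3
  have h3 : zc (S' : Subgroup G) ≤ zc T := by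
    intro z hz
    have h4 : z ∈ T := by
      rw [hg2, NO3S.Level.zc_cj] at hz
      have h5 : zc (S : Subgroup G) ≤ ZT (S : Subgroup G) K₀ := (h.lev.next).zc_le
      have h6 := cj_mono g h5 hz
      rw [cj_eq_of_mem_normalizer ((lb h.wcK).norm_B_le hgN)] at h6
      exact hB ((lb h.wcK).ZB h6)
    obtain ⟨h5, h6, h7⟩ := mem_zc.1 hz
    exact mem_zc.2 ⟨h4, h6, fun y hy => h7 y (hS' hy)⟩
  have h4 : Y ≤ centralizer (zc (S' : Subgroup G) : Set G) := hY.trans (centralizer_le h3)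
  have h5 : zl (S : Subgroup G) P ≤ o2 (centralizer (zc (S' : Subgroup G) : Set G)) := by
    have h6 := cj_mono g (h.hyp.low P h.hyp.star)
    rw [(h.norm hgN).1, ← pCore_cj, cj_centralizer, ← LemmaK.Main.zc_cj, ← hg2] at h6
    exact h6
  have h6 : zl (S : Subgroup G) P ≤ o2 (centralizer (zc (S' : Subgroup G) : Set G)) ⊓ Y :=
    le_inf h5 (((V_le_B h).trans hB).trans hTY)
  refine h6.trans (le_o2 ((isPGroup_o2 _).to_le inf_le_left) inf_le_right ?_)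
  intro y hy
  rw [mem_normalizer_iff_cj, cj_inf, cj_eq_of_mem_normalizer (le_normalizer_o2 _ (h4 hy)),
    cj_eq_of_mem_normalizer (le_normalizer hy)]

/-- **Existence of pairs.** The pair lies in a quiet minimal parabolic `Y ≰ M`. -/
theorem exists_pair (h : Lt S P K₀ L W Z C A q) {M H : Subgroup G} (hBM : BMT S K₀ M H) (hq : QFix S K₀ M H)
    (hD : centralizer (ZT (S : Subgroup G) K₀ : Set G) ≤ M) (hN : normalizer (BT (S : Subgroup G) K₀ : Set G) ≤ M)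
    (hB : BT (S : Subgroup G) K₀ ≤ H) (hc : H ⊓ centralizer (o2 H : Set G) ≤ o2 H) (hM : ¬ H ≤ M) :
    ∃ T F : Subgroup G, PairT S P K₀ M T F ∧ F ≤ H ∧ InQ S K₀ M H F := by
  have : Fact (Nat.Prime 2) := ⟨Nat.prime_two⟩
  have hb := lb h.wcK
  obtain ⟨T₀, hT₀, hBT₀⟩ := exists_syl hb.Bp hB
  have hK : K0 (ZT (S : Subgroup G) K₀) (fun _ _ => False) ≤ M := sup_le hD (iSup_le fun i => i.2.elim)
  have hsylY : ∀ Y : Subgroup G, IsMinPar T₀ Y → Y ≤ H → Syl T₀ Y := fun Y hY hYH =>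
    ⟨hY.le, hT₀.2.1, fun Q hQ h2 hTQ => hT₀.2.2 Q (hQ.trans hYH) h2 hTQ⟩
  have hcY' : ∀ Y : Subgroup G, IsMinPar T₀ Y → Y ≤ H → Y ⊓ centralizer (o2 Y : Set G) ≤ o2 Y := by
    intro Y hY hYH
    have h4 : o2 H ≤ o2 Y :=
      le_o2 (isPGroup_o2 H) ((o2_le_syl hT₀).trans hY.le) (hYH.trans (le_normalizer_o2 H))
    rintro x ⟨hx, hxc⟩
    exact h4 (hc ⟨hYH hx, centralizer_le (by exact_mod_cast h4) hxc⟩)
  have hKT : nxt (S : Subgroup G) K₀ ≤ T₀ := hb.KB.trans hBT₀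
  have hfix : ∀ Y : Subgroup G, IsMinPar T₀ Y → Y ≤ H → ¬ nxt (S : Subgroup G) K₀ ≤ o2 Y →
      Y ≤ centralizer (zc T₀ : Set G) → ¬ Y ≤ M →
        ZT (S : Subgroup G) K₀ ⊓ zc (o2 Y) ≤ centralizer (oddGen Y : Set G) :=
    fun Y hY hYH h1 h2 h3 => fix_T h.wcK h.lev hq (hsylY Y hY hYH) hBT₀ hY hYH (hcY' Y hY hYH) h1 h2 h3
  have hg := genM' hb hK hN hT₀ hBT₀ hc hfix
    fun Y hY hYH => hBM T₀ Y (hsylY Y hY hYH) hBT₀ hY hYH (hcY' Y hY hYH)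
  -- the minimal parabolic `Y`
  obtain ⟨Y, ⟨hYm, hYH, hYK, hYc, -⟩, hYM⟩ : ∃ Y : Subgroup G, (IsMinPar T₀ Y ∧ Y ≤ H ∧
      ¬ nxt (S : Subgroup G) K₀ ≤ o2 Y ∧
      Y ≤ centralizer (zc T₀ : Set G) ∧ ¬ o2 Y ≤ BT (S : Subgroup G) K₀) ∧ ¬ Y ≤ M := by
    by_contra hcon
    push Not at hcon
    exact hM (hg.trans (sup_le inf_le_right (iSup_le fun Y => hcon Y.1 Y.2)))
  have hTM : T₀ ≤ M := (hb.two_le hT₀.2.1 hBT₀).trans hN
  have hTY : Syl T₀ Y := hsylY Y hYm hYH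
  have hcY := hcY' Y hYm hYH
  have hVY : zl (S : Subgroup G) P ≤ o2 Y := V_le_o2 h hT₀.2.1 hBT₀ hYm.le hYc
  -- `Y₁ = O²(Y) O₂(Y) B`
  set Y₁ : Subgroup G := oddGen Y ⊔ (o2 Y ⊔ BT (S : Subgroup G) K₀) with hY₁
  have hY₁Y : Y₁ ≤ Y := sup_le (oddGen_le Y) (sup_le (o2_le Y) (hBT₀.trans hYm.le))
  have hOB : IsPGroup 2 (o2 Y ⊔ BT (S : Subgroup G) K₀ : Subgroup G) :=
    hT₀.2.1.to_le (sup_le (o2_le_syl hTY) hBT₀)
  obtain ⟨T, hT, hOT⟩ := exists_syl hOB (le_sup_right : o2 Y ⊔ BT (S : Subgroup G) K₀ ≤ Y₁)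
  have hY₁M : ¬ Y₁ ≤ M := by
    intro hle
    apply hYM
    rw [← Dich.oddGen_sup_syl hTY]
    exact sup_le (le_sup_left.trans hle) hTM
  obtain ⟨F, hF⟩ := (Set.toFinite {K : Subgroup G | T ≤ K ∧ K ≤ Y₁ ∧ ¬ K ≤ M}).exists_minimal
    ⟨Y₁, hT.1, le_rfl, hY₁M⟩
  obtain ⟨hTF, hFY₁, hFM⟩ := hF.prop
  have hFY : F ≤ Y := hFY₁.trans hY₁Y
  have hsyl : Syl T F := ⟨hTF, hT.2.1, fun Q hQ h2 hle => hT.2.2 Q (hQ.trans hFY₁) h2 hle⟩
  have hBT : BT (S : Subgroup G) K₀ ≤ T := le_sup_right.trans hOT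
  have hOF : o2 Y ≤ o2 F :=
    le_o2 (isPGroup_o2 Y) ((le_sup_left.trans hOT).trans hTF) (hFY.trans (le_normalizer_o2 Y))
  refine ⟨T, F, ⟨hsyl, hBT, hFM, fun K hTK hKF => ?_, hVY.trans hOF, ?_⟩, hFY.trans hYH, T₀, Y, hTY, hBT₀, hYm, hYH, hcY,
    hYc, hYM, hFY, hOF⟩
  · by_contra hKM
    exact hKF.not_ge (hF.le_of_le ⟨hTK, hKF.le.trans hFY₁, hKM⟩ hKF.le)
  · rintro z ⟨hz, hzc⟩
    have hzB : z ∈ BT (S : Subgroup G) K₀ := hb.ZB hz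
    have hzO : ∀ y ∈ o2 Y, y * z = z * y := fun y hy => mem_centralizer_iff.1 hzc y (hOF hy)
    have hz1 : z ∈ zc (o2 Y) := by
      refine mem_zc.2 ⟨hcY ⟨hYm.le (hBT₀ hzB), mem_centralizer_iff.2 hzO⟩, hb.sq z hz, hzO⟩
    have hz2 : z ∈ centralizer (oddGen Y : Set G) := hfix Y hYm hYH hYK hYc hYM ⟨hz, hz1⟩
    have hle : Y₁ ≤ centralizer ({z} : Set G) := by
      refine sup_le (fun y hy => ?_) (sup_le (fun y hy => ?_) fun y hy => ?_) <;>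
        rw [mem_centralizer_singleton_iff]
      · exact mem_centralizer_iff.1 hz2 y hy
      · exact hzO y hy
      · exact (mem_centralizer_iff.1 (hb.Bc hy) z hz).symm
    rw [mem_centralizer_iff]
    intro y hy
    exact mem_centralizer_singleton_iff.1 (hle (hFY₁ hy))

end line

theorem PairT.nK {P M T F : Subgroup G} (hw : NO3b.Wc.WC (S : Subgroup G) K₀) (hp : PairT S P K₀ M T F)
    (hZM : normalizer (ZT (S : Subgroup G) K₀ : Set G) ≤ M) : ¬ nxt (S : Subgroup G) K₀ ≤ o2 F := fun hle =>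
  hp.nM ((le_normalizer_o2 F).trans (((lb hw).nrm _ (isPGroup_o2 F) hle).trans hZM))

theorem PairT.minPar {P M T F : Subgroup G} (hw : NO3b.Wc.WC (S : Subgroup G) K₀) (hp : PairT S P K₀ M T F)
    (hZM : normalizer (ZT (S : Subgroup G) K₀ : Set G) ≤ M) : IsMinPar T F := by
  refine ⟨hp.syl.1, fun hle => ?_, F ⊓ M, lt_of_le_of_ne inf_le_left fun e => hp.nM (inf_eq_left.1 e),
    fun K hTK hKF => le_inf hKF.le (hp.min K hTK hKF)⟩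
  apply hp.nK hw hZM
  exact ((lb hw).KB.trans hp.BT).trans (le_o2 hp.syl.2.1 hp.syl.1 hle)

end Cfsg.Agent.Omega.OM.SwapT
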